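import Cfsg.Agent.H6.HN.M.D0

set_option autoImplicit false
set_option maxRecDepth 100000
set_option Elab.async false

namespace Cfsg.H6.HN.M

theorem pa3 : Nat.beq (trF (P.img P.d code) [12,12,12,12,12,12,12,12,12,12,12,12,12,12,12,12,12,12,12,12,12,12,12,12] (code 12)) P.one = true := by
  decide +kernel

theorem pb3 : Nat.beq (trF (P.img P.d code) [3,3,3,3,3] (code 3)) P.one = true := by
  decide +kernel

theorem l7_0 : allR (P.lab1 1 code (nthN [0,21]) g7 tab7 7 2) 0 7 = true := by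
  decide +kernel

theorem v7_0 : dvChk tab7 7 2 6 [[1]] [] [0,1,2,3,4,5,6] (unp 6 (nat_lit 0x1000000050000000300000000000000040000000600)) = true := by
  decide +kernel


theorem l11_0 : allR (P.lab1 1 code (nthN [0,23]) g11 tab11 11 2) 0 11 = true := by
  decide +kernel

theorem v11_0 : dvChk tab11 11 2 4 [[1]] [] [0,1,2,3,4,5,6,7,8,9,10] (unp 10 (nat_lit 0x900000000000000070000000a00000001000000080000000500000003000000020000000400)) = true := by
  decide +kernel


theorem l19_0 : allR (P.lab1 1 code (nthN [0,8]) g19 tab19 19 2) 0 19 = true := by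
  decide +kernel

theorem v19_0 : dvChk tab19 19 2 3 [[1]] [] [0,1,2,3,4,5,6,7,8,9,10,11,12,13,14,15,16,17,18] (unp 18 (nat_lit 0xd00000007000000060000000b000000000000000c000000100000000f0000000e0000000a000000120000000400000002000000090000000800000001000000050000000300)) = true := by
  decide +kernel


theorem l3_0 : allR (P.lab1 1 code (nthN [0,35,36,38]) g3 tab3 54 4) 0 54 = true := by
  decide +kernel

theorem v3_5 : dvChk tab3 54 4 16 [[1,1,1]] [] [4,16,47] (unp 2 (nat_lit 0x40000001000)) = true := by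
  decide +kernel

theorem v3_4 : dvChk tab3 54 4 19 [[1,1,2,1,2,3,2,3,3]] [[1,1,1]] [19,35,40] (unp 2 (nat_lit 0x230000001300)) = true := by
  decide +kernel

theorem v3_3 : dvChk tab3 54 4 6 [[1,1,2,1,2,2]] [[1,1,2,1,2,3,2,3,3], [1,1,1]] [6,27,32] (unp 2 (nat_lit 0x1b0000000600)) = true := by
  decide +kernel

theorem v3_2 : dvChk tab3 54 4 28 [[1,2]] [[1,1,2,1,2,2], [1,1,2,1,2,3,2,3,3], [1,1,1]] [15,28,50] (unp 2 (nat_lit 0x320000001c00)) = true := by
  decide +kernel

theorem v3_1 : dvChk tab3 54 4 26 [[2,3]] [[1,2], [1,1,2,1,2,2], [1,1,2,1,2,3,2,3,3], [1,1,1]] [10,20,26] (unp 2 (nat_lit 0xa0000001a00)) = true := by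
  decide +kernel

theorem v3_0 : dvChk tab3 54 4 44 [[1]] [[2,3], [1,2], [1,1,2,1,2,2], [1,1,2,1,2,3,2,3,3], [1,1,1]] [44,51,53] (unp 2 (nat_lit 0x330000002c00)) = true := by
  decide +kernel


theorem l5_0 : allR (P.lab1 1 code (nthN [0,49,50]) g5 tab5 180 3) 0 180 = true := by
  decide +kernel

theorem v5_4 : dvChk tab5 180 3 163 [[1,2,1,2,1,2,1,2,1,2]] [] [63,142,146,163,169] (unp 4 (nat_lit 0x92000000a90000003f000000a300)) = true := by
  decide +kernel

theorem v5_3 : dvChk tab5 180 3 152 [[1,1,2,1,1,2,2,1,2,2]] [[1,2,1,2,1,2,1,2,1,2]] [10,12,133,134,152] (unp 4 (nat_lit 0xc0000000a000000850000009800)) = true := by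
  decide +kernel

theorem v5_2 : dvChk tab5 180 3 113 [[1,1,1,2,1,2,2,2,1,2]] [[1,1,2,1,1,2,2,1,2,2], [1,2,1,2,1,2,1,2,1,2]] [19,26,113,129,160] (unp 4 (nat_lit 0x810000001a000000130000007100)) = true := by
  decide +kernel

theorem v5_1 : dvChk tab5 180 3 109 [[1], [2,1,2,2,2,2]] [[1,1,1,2,1,2,2,2,1,2], [1,1,2,1,1,2,2,1,2,2], [1,2,1,2,1,2,1,2,1,2]] [1,7,17,21,28,33,40,48,58,66,72,78,83,98,104,109,116,123,131,151,156,159,166,171,177] (unp 24 (nat_lit 0x70000009c00000097000000620000000101000001000000b100000083000000530000001c0100001c000000ab0000007b0000004e0000001501000015000000a60000007400000048000000110100003a000000110000009f0000006d00)) = true := by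
  decide +kernel

theorem v5_0 : dvChk tab5 180 3 34 [[2]] [[1], [2,1,2,2,2,2], [1,1,1,2,1,2,2,2,1,2], [1,1,2,1,1,2,2,1,2,2], [1,2,1,2,1,2,1,2,1,2]] [34,67,74,91,173] (unp 4 (nat_lit 0x4a000000ad0000005b0000002200)) = true := by
  decide +kernel


theorem l2_0 : allR (P.lab1 1 code (nthN [0,69,73,74,75]) g2 tab2 346 5) 0 100 = true := by
  decide +kernel

theorem l2_1 : allR (P.lab1 1 code (nthN [0,69,73,74,75]) g2 tab2 346 5) 100 100 = true := by
  decide +kernel

theorem l2_2 : allR (P.lab1 1 code (nthN [0,69,73,74,75]) g2 tab2 346 5) 200 100 = true := by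
  decide +kernel

theorem l2_3 : allR (P.lab1 1 code (nthN [0,69,73,74,75]) g2 tab2 346 5) 300 46 = true := by
  decide +kernel


end Cfsg.H6.HN.M
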