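import Cfsg.Agent.H6.HN.M.B0
import Cfsg.Agent.H6.HN.M.B1
import Cfsg.Agent.H6.HN.M.B2
import Cfsg.Agent.H6.HN.M.B3
import Cfsg.Agent.H6.HN.M.B4
import Cfsg.Agent.H6.HN.M.B5
import Cfsg.Agent.H6.HN.M.B6
import Cfsg.Agent.H6.HN.M.B7
import Cfsg.Agent.H6.HN.M.B8
import Cfsg.Agent.H6.HN.M.B9
import Cfsg.Agent.H6.HN.M.B10
import Cfsg.Agent.H6.HN.Pres

set_option autoImplicit false
set_option maxRecDepth 100000
set_option Elab.async false

namespace Cfsg.H6.HN.M

def sg : List (List ℕ) := [[], [1], [2], [3], [4], [5], [6], [7], [7,5,4,2,3,3], [3,7,5,4,2,3,3,4,1], [1,6], [6,5], [2,7,5,4,2,3,3,1,3], [3,3], [2,4,1,3], [2,3,3,1,3,3,3], [1,3], [1,3,1,3,3,3], [5,4,2,4,2,4,4,4,5,3,3,3,1,3,1,3,1,4,2,4,2,4,4,4,5,3,3,3,1,3,1,3,1,4,2,4,2,4,4,4,5,3,3,3,1], [5,6]]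

theorem ex : Ex (P.mat code) sg 20 :=
  (((((((((((((Ex.base (m := 8) (by decide +kernel)).step (Par.def_of_chk ok d8) (by decide +kernel)).step (Par.def_of_chk ok d9) (by decide +kernel)).step (Par.def_of_chk ok d10) (by decide +kernel)).step (Par.def_of_chk ok d11) (by decide +kernel)).step (Par.def_of_chk ok d12) (by decide +kernel)).step (Par.def_of_chk ok d13) (by decide +kernel)).step (Par.def_of_chk ok d14) (by decide +kernel)).step (Par.def_of_chk ok d15) (by decide +kernel)).step (Par.def_of_chk ok d16) (by decide +kernel)).step (Par.def_of_chk ok d17) (by decide +kernel)).step (Par.def_of_chk ok d18) (by decide +kernel)).step (Par.def_of_chk ok d19) (by decide +kernel))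

def R2 : List (List ℕ) := [[13,13,13], [1,1,3,1,1,4], [14,14,14], [15,15,15], [16,16,16,16,16,16,16,16], [17,17,17,17], [5,1,5,1], [5,3,2,4,4,2,4,2,4,5,3,1,3,1,3,3,1,4,2,2], [18,3,1,3,1], [6,6,6,6,6], [2,6,1,6,6], [7,4,6,3], [19,19,19], [1,2], [3,4], [5,5], [6,7]]

theorem ones : ∀ r ∈ R2, mpr (P.mat code) r = 1 :=
  (List.forall_mem_cons.mpr ⟨Par.one_of_chk ok (by decide) r0, (List.forall_mem_cons.mpr ⟨Par.one_of_chk ok (by decide) r1, (List.forall_mem_cons.mpr ⟨Par.one_of_chk ok (by decide) r2, (List.forall_mem_cons.mpr ⟨Par.one_of_chk ok (by decide) r3, (List.forall_mem_cons.mpr ⟨Par.one_of_chk ok (by decide) r4, (List.forall_mem_cons.mpr ⟨Par.one_of_chk ok (by decide) r5, (List.forall_mem_cons.mpr ⟨Par.one_of_chk ok (by decide) r6, (List.forall_mem_cons.mpr ⟨Par.one_of_chk ok (by decide) r7, (List.forall_mem_cons.mpr ⟨Par.one_of_chk ok (by decide) r8, (List.forall_mem_cons.mpr ⟨Par.one_of_chk ok (by decide) r9, (List.forall_mem_cons.mpr ⟨Par.one_of_chk ok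 (by decide) r10, (List.forall_mem_cons.mpr ⟨Par.one_of_chk ok (by decide) r11, (List.forall_mem_cons.mpr ⟨Par.one_of_chk ok (by decide) r12, (List.forall_mem_cons.mpr ⟨Par.one_of_chk ok (by decide) r13, (List.forall_mem_cons.mpr ⟨Par.one_of_chk ok (by decide) r14, (List.forall_mem_cons.mpr ⟨Par.one_of_chk ok (by decide) r15, (List.forall_mem_cons.mpr ⟨Par.one_of_chk ok (by decide) r16, (by simp)⟩)⟩)⟩)⟩)⟩)⟩)⟩)⟩)⟩)⟩)⟩)⟩)⟩)⟩)⟩)⟩)⟩)

abbrev Mx : Type := Matrix (Fin P.d) (Fin P.d) (ZMod P.q)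

theorem rep : ∃ μ : Spor.HN →* Mx, ∀ x, 1 ≤ x → x < 8 → μ (HN.ev x) = P.mat code x := by
  obtain ⟨h1, h2, h3⟩ := mrep_sound (m0 := 8) (inv := 434321399574757888) (R := HN.R) ex ones (by decide +kernel)
  obtain ⟨ρ, hρ⟩ := HN.lift h1 h2
  exact ⟨(Units.coeHom _).comp ρ, fun x a b => by rw [MonoidHom.comp_apply, hρ, h3 x a b]⟩

/-- The representation. -/
noncomputable def μ : Spor.HN →* Mx := rep.choose

theorem hμ : ∀ x, 1 ≤ x → x < 8 → μ (HN.ev x) = P.mat code x := rep.choose_spec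

theorem m8 : Mem μ (P.mat code) 8 := Mem.base hμ

theorem m9 : Mem μ (P.mat code) 9 := m8.step (Par.def_of_chk ok d8) (by decide +kernel)

theorem m10 : Mem μ (P.mat code) 10 := m9.step (Par.def_of_chk ok d9) (by decide +kernel)

theorem m11 : Mem μ (P.mat code) 11 := m10.step (Par.def_of_chk ok d10) (by decide +kernel)

theorem m12 : Mem μ (P.mat code) 12 := m11.step (Par.def_of_chk ok d11) (by decide +kernel)

theorem m13 : Mem μ (P.mat code) 13 := m12.step (Par.def_of_chk ok d12) (by decide +kernel)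

theorem m14 : Mem μ (P.mat code) 14 := m13.step (Par.def_of_chk ok d13) (by decide +kernel)

theorem m15 : Mem μ (P.mat code) 15 := m14.step (Par.def_of_chk ok d14) (by decide +kernel)

theorem m16 : Mem μ (P.mat code) 16 := m15.step (Par.def_of_chk ok d15) (by decide +kernel)

theorem m17 : Mem μ (P.mat code) 17 := m16.step (Par.def_of_chk ok d16) (by decide +kernel)

theorem m18 : Mem μ (P.mat code) 18 := m17.step (Par.def_of_chk ok d17) (by decide +kernel)

theorem m19 : Mem μ (P.mat code) 19 := m18.step (Par.def_of_chk ok d18) (by decide +kernel)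

theorem m20 : Mem μ (P.mat code) 20 := m19.step (Par.def_of_chk ok d19) (by decide +kernel)

theorem m21 : Mem μ (P.mat code) 21 := m20.step (Par.def_of_chk ok d20) (by decide +kernel)

theorem m22 : Mem μ (P.mat code) 22 := m21.step (Par.def_of_chk ok d21) (by decide +kernel)

theorem m23 : Mem μ (P.mat code) 23 := m22.step (Par.def_of_chk ok d22) (by decide +kernel)

theorem m24 : Mem μ (P.mat code) 24 := m23.step (Par.def_of_chk ok d23) (by decide +kernel)

theorem m25 : Mem μ (P.mat code) 25 := m24.step (Par.def_of_chk ok d24) (by decide +kernel)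

theorem m26 : Mem μ (P.mat code) 26 := m25.step (Par.def_of_chk ok d25) (by decide +kernel)

theorem m27 : Mem μ (P.mat code) 27 := m26.step (Par.def_of_chk ok d26) (by decide +kernel)

theorem m28 : Mem μ (P.mat code) 28 := m27.step (Par.def_of_chk ok d27) (by decide +kernel)

theorem m29 : Mem μ (P.mat code) 29 := m28.step (Par.def_of_chk ok d28) (by decide +kernel)

theorem m30 : Mem μ (P.mat code) 30 := m29.step (Par.def_of_chk ok d29) (by decide +kernel)

theorem m31 : Mem μ (P.mat code) 31 := m30.step (Par.def_of_chk ok d30) (by decide +kernel)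

theorem m32 : Mem μ (P.mat code) 32 := m31.step (Par.def_of_chk ok d31) (by decide +kernel)

theorem m33 : Mem μ (P.mat code) 33 := m32.step (Par.def_of_chk ok d32) (by decide +kernel)

theorem m34 : Mem μ (P.mat code) 34 := m33.inv (Par.one_of_chk ok (by decide) d33) (by decide +kernel)

theorem m35 : Mem μ (P.mat code) 35 := m34.inv (Par.one_of_chk ok (by decide) d34) (by decide +kernel)

theorem m36 : Mem μ (P.mat code) 36 := m35.step (Par.def_of_chk ok d35) (by decide +kernel)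

theorem m37 : Mem μ (P.mat code) 37 := m36.step (Par.def_of_chk ok d36) (by decide +kernel)

theorem m38 : Mem μ (P.mat code) 38 := m37.inv (Par.one_of_chk ok (by decide) d37) (by decide +kernel)

theorem m39 : Mem μ (P.mat code) 39 := m38.step (Par.def_of_chk ok d38) (by decide +kernel)

theorem m40 : Mem μ (P.mat code) 40 := m39.step (Par.def_of_chk ok d39) (by decide +kernel)

theorem m41 : Mem μ (P.mat code) 41 := m40.step (Par.def_of_chk ok d40) (by decide +kernel)

theorem m42 : Mem μ (P.mat code) 42 := m41.step (Par.def_of_chk ok d41) (by decide +kernel)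

theorem m43 : Mem μ (P.mat code) 43 := m42.inv (Par.one_of_chk ok (by decide) d42) (by decide +kernel)

theorem m44 : Mem μ (P.mat code) 44 := m43.step (Par.def_of_chk ok d43) (by decide +kernel)

theorem m45 : Mem μ (P.mat code) 45 := m44.step (Par.def_of_chk ok d44) (by decide +kernel)

theorem m46 : Mem μ (P.mat code) 46 := m45.step (Par.def_of_chk ok d45) (by decide +kernel)

theorem m47 : Mem μ (P.mat code) 47 := m46.inv (Par.one_of_chk ok (by decide) d46) (by decide +kernel)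

theorem m48 : Mem μ (P.mat code) 48 := m47.step (Par.def_of_chk ok d47) (by decide +kernel)

theorem m49 : Mem μ (P.mat code) 49 := m48.inv (Par.one_of_chk ok (by decide) d48) (by decide +kernel)

theorem m50 : Mem μ (P.mat code) 50 := m49.step (Par.def_of_chk ok d49) (by decide +kernel)

theorem m51 : Mem μ (P.mat code) 51 := m50.step (Par.def_of_chk ok d50) (by decide +kernel)

theorem m52 : Mem μ (P.mat code) 52 := m51.step (Par.def_of_chk ok d51) (by decide +kernel)

theorem m53 : Mem μ (P.mat code) 53 := m52.step (Par.def_of_chk ok d52) (by decide +kernel)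

theorem m54 : Mem μ (P.mat code) 54 := m53.step (Par.def_of_chk ok d53) (by decide +kernel)

theorem m55 : Mem μ (P.mat code) 55 := m54.inv (Par.one_of_chk ok (by decide) d54) (by decide +kernel)

theorem m56 : Mem μ (P.mat code) 56 := m55.step (Par.def_of_chk ok d55) (by decide +kernel)

theorem m57 : Mem μ (P.mat code) 57 := m56.step (Par.def_of_chk ok d56) (by decide +kernel)

theorem m58 : Mem μ (P.mat code) 58 := m57.inv (Par.one_of_chk ok (by decide) d57) (by decide +kernel)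

theorem m59 : Mem μ (P.mat code) 59 := m58.step (Par.def_of_chk ok d58) (by decide +kernel)

theorem m60 : Mem μ (P.mat code) 60 := m59.step (Par.def_of_chk ok d59) (by decide +kernel)

theorem m61 : Mem μ (P.mat code) 61 := m60.step (Par.def_of_chk ok d60) (by decide +kernel)

theorem m62 : Mem μ (P.mat code) 62 := m61.step (Par.def_of_chk ok d61) (by decide +kernel)

theorem m63 : Mem μ (P.mat code) 63 := m62.step (Par.def_of_chk ok d62) (by decide +kernel)

theorem m64 : Mem μ (P.mat code) 64 := m63.step (Par.def_of_chk ok d63) (by decide +kernel)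

theorem m65 : Mem μ (P.mat code) 65 := m64.step (Par.def_of_chk ok d64) (by decide +kernel)

theorem m66 : Mem μ (P.mat code) 66 := m65.step (Par.def_of_chk ok d65) (by decide +kernel)

theorem m67 : Mem μ (P.mat code) 67 := m66.step (Par.def_of_chk ok d66) (by decide +kernel)

theorem m68 : Mem μ (P.mat code) 68 := m67.inv (Par.one_of_chk ok (by decide) d67) (by decide +kernel)

theorem m69 : Mem μ (P.mat code) 69 := m68.inv (Par.one_of_chk ok (by decide) d68) (by decide +kernel)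

theorem m70 : Mem μ (P.mat code) 70 := m69.step (Par.def_of_chk ok d69) (by decide +kernel)

theorem m71 : Mem μ (P.mat code) 71 := m70.inv (Par.one_of_chk ok (by decide) d70) (by decide +kernel)

theorem m72 : Mem μ (P.mat code) 72 := m71.step (Par.def_of_chk ok d71) (by decide +kernel)

theorem m73 : Mem μ (P.mat code) 73 := m72.inv (Par.one_of_chk ok (by decide) d72) (by decide +kernel)

theorem m74 : Mem μ (P.mat code) 74 := m73.step (Par.def_of_chk ok d73) (by decide +kernel)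

theorem m75 : Mem μ (P.mat code) 75 := m74.step (Par.def_of_chk ok d74) (by decide +kernel)

theorem m76 : Mem μ (P.mat code) 76 := m75.step (Par.def_of_chk ok d75) (by decide +kernel)

theorem mem : Mem (kq μ) (P.mat code) 76 := m76.kq

theorem lab7 : Lab (rAct (kq μ) (Fin 1)) (fun x => ev2 (kq μ) (P.mat code) (nthN [0,21] x)) (fun p => P.dec 1 (g7 p)) tab7 7 2 :=
  Par.lab ok mem (by decide +kernel) (allR_range l7_0 (by norm_num : 0 + 7 = 7))

theorem dv7 : 7 ∣ Nat.card (Spor.HN ⧸ μ.ker) :=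
  Dvd.dvd.trans (Dvd.dvd.trans (by decide +kernel) (lab7.dvd v7_0 (one_dvd _))) (Subgroup.card_subgroup_dvd_card _)

theorem lab11 : Lab (rAct (kq μ) (Fin 1)) (fun x => ev2 (kq μ) (P.mat code) (nthN [0,23] x)) (fun p => P.dec 1 (g11 p)) tab11 11 2 :=
  Par.lab ok mem (by decide +kernel) (allR_range l11_0 (by norm_num : 0 + 11 = 11))

theorem dv11 : 11 ∣ Nat.card (Spor.HN ⧸ μ.ker) :=
  Dvd.dvd.trans (Dvd.dvd.trans (by decide +kernel) (lab11.dvd v11_0 (one_dvd _))) (Subgroup.card_subgroup_dvd_card _)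

theorem lab19 : Lab (rAct (kq μ) (Fin 1)) (fun x => ev2 (kq μ) (P.mat code) (nthN [0,8] x)) (fun p => P.dec 1 (g19 p)) tab19 19 2 :=
  Par.lab ok mem (by decide +kernel) (allR_range l19_0 (by norm_num : 0 + 19 = 19))

theorem dv19 : 19 ∣ Nat.card (Spor.HN ⧸ μ.ker) :=
  Dvd.dvd.trans (Dvd.dvd.trans (by decide +kernel) (lab19.dvd v19_0 (one_dvd _))) (Subgroup.card_subgroup_dvd_card _)

theorem lab3 : Lab (rAct (kq μ) (Fin 1)) (fun x => ev2 (kq μ) (P.mat code) (nthN [0,35,36,38] x)) (fun p => P.dec 1 (g3 p)) tab3 54 4 :=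
  Par.lab ok mem (by decide +kernel) (allR_range l3_0 (by norm_num : 0 + 54 = 54))

theorem dv3 : 729 ∣ Nat.card (Spor.HN ⧸ μ.ker) :=
  Dvd.dvd.trans (Dvd.dvd.trans (by decide +kernel) (lab3.dvd v3_0 (lab3.dvd v3_1 (lab3.dvd v3_2 (lab3.dvd v3_3 (lab3.dvd v3_4 (lab3.dvd v3_5 (one_dvd _)))))))) (Subgroup.card_subgroup_dvd_card _)

theorem lab5 : Lab (rAct (kq μ) (Fin 1)) (fun x => ev2 (kq μ) (P.mat code) (nthN [0,49,50] x)) (fun p => P.dec 1 (g5 p)) tab5 180 3 :=
  Par.lab ok mem (by decide +kernel) (allR_range l5_0 (by norm_num : 0 + 180 = 180))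

theorem dv5 : 15625 ∣ Nat.card (Spor.HN ⧸ μ.ker) :=
  Dvd.dvd.trans (Dvd.dvd.trans (by decide +kernel) (lab5.dvd v5_0 (lab5.dvd v5_1 (lab5.dvd v5_2 (lab5.dvd v5_3 (lab5.dvd v5_4 (one_dvd _))))))) (Subgroup.card_subgroup_dvd_card _)

theorem lab2 : Lab (rAct (kq μ) (Fin 1)) (fun x => ev2 (kq μ) (P.mat code) (nthN [0,69,73,74,75] x)) (fun p => P.dec 1 (g2 p)) tab2 346 5 :=
  Par.lab ok mem (by decide +kernel) (range_join (range_join (allR_range l2_0 (by norm_num : 0 + 100 = 100)) (allR_range l2_1 (by norm_num : 100 + 100 = 200))) (range_join (allR_range l2_2 (by norm_num : 200 + 100 = 300)) (allR_range l2_3 (by norm_num : 300 + 46 = 346))))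

theorem dv2 : 16384 ∣ Nat.card (Spor.HN ⧸ μ.ker) :=
  Dvd.dvd.trans (Dvd.dvd.trans (by decide +kernel) (lab2.dvd v2_0 (lab2.dvd v2_1 (lab2.dvd v2_2 (lab2.dvd v2_3 (lab2.dvd v2_4 (lab2.dvd v2_5 (lab2.dvd v2_6 (lab2.dvd v2_7 (lab2.dvd v2_8 (lab2.dvd v2_9 (one_dvd _)))))))))))) (Subgroup.card_subgroup_dvd_card _)

theorem powx (hi : Function.Injective μ) : evL HN.ev [7,5,4,2,3,3] ^ 19 = 1 :=
  ex.pow hμ hi (a := 8) (Par.one_of_chk ok (by decide) px) (by decide +kernel)

theorem kill (hi : Function.Injective μ) (N : Subgroup Spor.HN) [N.Normal] (h : evL HN.ev [7,5,4,2,3,3] ∈ N) :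
    ∀ t ∈ HN.X, evL HN.ev t ∈ N := by
  have h0 := ex.kil HN.hev hμ hi h [4] [1] (a := 9) (k := 11) (b := 1) (o := 4)
    (Par.one_of_chk ok (by decide) pa0) (Par.one_of_chk ok (by decide) pb0) (by decide +kernel)
  have h1 := ex.kil HN.hev hμ hi h0 [] [6] (a := 10) (k := 4) (b := 6) (o := 5)
    (Par.one_of_chk ok (by decide) pa1) (Par.one_of_chk ok (by decide) pb1) (by decide +kernel)
  have h2 := ex.kil HN.hev hμ hi h1 [] [5] (a := 11) (k := 3) (b := 5) (o := 2)
    (Par.one_of_chk ok (by decide) pa2) (Par.one_of_chk ok (by decide) pb2) (by decide +kernel)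
  have h3 := ex.kil HN.hev hμ hi h [1] [3] (a := 12) (k := 25) (b := 3) (o := 6)
    (Par.one_of_chk ok (by decide) pa3) (Par.one_of_chk ok (by decide) pb3) (by decide +kernel)
  exact (List.forall_mem_cons.mpr ⟨h0, (List.forall_mem_cons.mpr ⟨h3, (List.forall_mem_cons.mpr ⟨h2, (List.forall_mem_cons.mpr ⟨h1, (by simp)⟩)⟩)⟩)⟩)

theorem dv : 273030912000000 ∣ Nat.card (Spor.HN ⧸ μ.ker) :=
  Dvd.dvd.trans (by decide +kernel) (Nat.lcm_dvd dv2 (Nat.lcm_dvd dv3 (Nat.lcm_dvd dv5
    (Nat.lcm_dvd dv7 (Nat.lcm_dvd dv11 dv19)))))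


end Cfsg.H6.HN.M
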